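import Mathlib

/-!
A subgroup containing the centraliser of an involution `t` is the whole group when its involutions form two
classes whose second one is told apart by centraliser orders and has suitable roots in the joint centraliser.
-/

set_option autoImplicit false

namespace CfsgLib.Recog.HSTop

variable {G : Type*} [Group G]

/-- Conjugate to `t` inside `H`. -/
def InH (H : Subgroup G) (t x : G) : Prop := ∃ g ∈ H, g * t * g⁻¹ = x

/-- The facts about the subgroup. -/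
structure Facts (H : Subgroup G) (t u a : G) : Prop where
  t_mem : t ∈ H
  u_mem : u ∈ H
  a_mem : a ∈ H
  cent_le : Subgroup.centralizer ({t} : Set G) ≤ H
  u_sq : u * u = 1
  u_ne : u ≠ 1
  t_sq : t * t = 1
  tu : t * u = u * t
  au : a * u = u * a
  classes : ∀ x ∈ H, x * x = 1 → x ≠ 1 → InH H t x ∨ InH H u x
  a_conj : InH H t a
  au_not : ¬ InH H t (a * u)
  tu_not : ¬ InH H t (t * u)
  apart : ∀ g ∈ H, g * u = u * g → g * t * g⁻¹ ≠ a
  roots : ∀ z ∈ H, z * t = t * z → z * u = u * z → z * z = 1 ∨ z * z = u → z ≠ 1 → z ≠ u →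
    InH H t z ∨ InH H t (z * u)
  not_conj : ∀ g : G, g * t * g⁻¹ ≠ u

theorem mem_of_conj_mem {H : Subgroup G} {t u a : G} (h : Facts H t u a) {g y : G} (hy : InH H t y)
    (hgy : InH H t (g * y * g⁻¹)) : g ∈ H := by
  obtain ⟨p, hp, rfl⟩ := hy
  obtain ⟨q, hq, e⟩ := hgy
  have hmem : q⁻¹ * g * p ∈ H := by
    refine h.cent_le (Subgroup.mem_centralizer_singleton_iff.2 ?_)
    calc q⁻¹ * g * p * t = q⁻¹ * (g * (p * t * p⁻¹) * g⁻¹) * g * p := by group
      _ = t * (q⁻¹ * g * p) := by rw [← e]; group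
  have := H.mul_mem (H.mul_mem hq hmem) (H.inv_mem hp)
  rwa [show q * (q⁻¹ * g * p) * p⁻¹ = g by group] at this

theorem cent_le_of_conj {H : Subgroup G} {t u a : G} (h : Facts H t u a) {x : G} (hx : InH H t x) {g : G}
    (hg : g * x = x * g) : g ∈ H := by
  refine mem_of_conj_mem h hx ?_
  rwa [hg, mul_inv_cancel_right]

theorem not_conj_of_not_in {H : Subgroup G} {t u a : G} (h : Facts H t u a) {x : G} (hx : x ∈ H) (hxx : x * x = 1)
    (hx1 : x ≠ 1) (hn : ¬ InH H t x) (g : G) : g * t * g⁻¹ ≠ x := by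
  intro e
  obtain ⟨p, hp, e'⟩ := (h.classes x hx hxx hx1).resolve_left hn
  refine h.not_conj (p⁻¹ * g) ?_
  rw [← e'] at e
  calc p⁻¹ * g * t * (p⁻¹ * g)⁻¹ = p⁻¹ * (g * t * g⁻¹) * p := by group
    _ = u := by rw [e]; group

/-- The centraliser of the second involution lies in the subgroup. -/
theorem cent_second_le [Finite G] {H : Subgroup G} {t u a : G} (h : Facts H t u a) {c : G} (hc : c * u = u * c) :
    c ∈ H := by
  by_contra hcH
  obtain ⟨b, hb⟩ : ∃ b, b = c * t * c⁻¹ := ⟨_, rfl⟩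
  have hci : c⁻¹ * u = u * c⁻¹ := ((show Commute c u from hc).inv_left).eq
  have haa : a * a = 1 := by
    obtain ⟨g, -, e⟩ := h.a_conj
    rw [← e, show g * t * g⁻¹ * (g * t * g⁻¹) = g * (t * t) * g⁻¹ by group, h.t_sq, mul_one, mul_inv_cancel]
  have hbb : b * b = 1 := by
    rw [hb, show c * t * c⁻¹ * (c * t * c⁻¹) = c * (t * t) * c⁻¹ by group, h.t_sq, mul_one, mul_inv_cancel]
  have hbu : b * u = u * b := by
    have h0 : Commute t u := h.tu
    rw [hb]
    exact (((show Commute c u from hc).mul_left h0).mul_left (show Commute c u from hc).inv_left).eq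
  obtain ⟨d, hd⟩ : ∃ d, d = a * b := ⟨_, rfl⟩
  have hdu : Commute d u := hd ▸ (show Commute a u from h.au).mul_left hbu
  have hai : a⁻¹ = a := inv_eq_of_mul_eq_one_left haa
  have hbi : b⁻¹ = b := inv_eq_of_mul_eq_one_left hbb
  have hflipa : ∀ k : ℕ, a * d ^ k * a⁻¹ = (d ^ k)⁻¹ := fun k => by
    rw [← conj_pow, ← inv_pow]
    congr 1
    rw [hd, _root_.mul_inv_rev, hai, hbi, ← mul_assoc a a, haa, one_mul]
  have hflipb : ∀ k : ℕ, b * d ^ k * b⁻¹ = (d ^ k)⁻¹ := fun k => by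
    rw [← conj_pow, ← inv_pow]
    congr 1
    rw [hd, _root_.mul_inv_rev, hai, hbi, mul_assoc, mul_assoc a, hbb, mul_one]
  have hex : ∃ k, 0 < k ∧ (d ^ k = 1 ∨ d ^ k = u) :=
    ⟨orderOf d, orderOf_pos d, Or.inl (pow_orderOf_eq_one d)⟩
  classical
  obtain ⟨m, hm, hmin⟩ : ∃ m, (0 < m ∧ (d ^ m = 1 ∨ d ^ m = u)) ∧
      ∀ k < m, ¬ (0 < k ∧ (d ^ k = 1 ∨ d ^ k = u)) :=
    ⟨Nat.find hex, Nat.find_spec hex, fun k => Nat.find_min hex⟩
  obtain ⟨hm0, hm⟩ := hm
  have hnotau := not_conj_of_not_in h (H.mul_mem h.a_mem h.u_mem) (by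
    rw [mul_assoc, ← mul_assoc u a, ← h.au, mul_assoc a u u, h.u_sq, mul_one, haa]) (fun e => by
    obtain ⟨g, -, eg⟩ := h.a_conj
    refine h.not_conj g ?_
    rw [eg]
    calc a = a * (u * u) := by rw [h.u_sq, mul_one]
      _ = u := by rw [← mul_assoc, e, one_mul]) h.au_not
  have htun := not_conj_of_not_in h (H.mul_mem h.t_mem h.u_mem) (by
    rw [mul_assoc, ← mul_assoc u t, ← h.tu, mul_assoc t u u, h.u_sq, mul_one, h.t_sq]) (fun e => by
    refine h.not_conj 1 ?_
    rw [one_mul, inv_one, mul_one]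
    calc t = t * (u * u) := by rw [h.u_sq, mul_one]
      _ = u := by rw [← mul_assoc, e, one_mul]) h.tu_not
  rcases Nat.even_or_odd m with ⟨j, hj⟩ | ⟨j, hj⟩
  · -- a root of `1` or `u` centralising both involutions
    obtain ⟨z, hz⟩ : ∃ z, z = d ^ j := ⟨_, rfl⟩
    have hz1 : z ≠ 1 ∧ z ≠ u := ⟨fun e => hmin j (by omega) ⟨by omega, Or.inl (hz ▸ e)⟩,
      fun e => hmin j (by omega) ⟨by omega, Or.inr (hz ▸ e)⟩⟩
    have hzz : z * z = 1 ∨ z * z = u := by rw [hz, ← pow_add, ← hj]; exact hm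
    have hzu : Commute z u := hz ▸ hdu.pow_left j
    have key : ∀ (x : G), x * z * x⁻¹ = z⁻¹ → (∀ g : G, g * t * g⁻¹ ≠ x * u) → (∃ g : G, g * t * g⁻¹ = x) →
        Commute x u → x * z = z * x := by
      intro x hxz hnot hx hxu
      rcases hzz with e | e
      · rw [inv_eq_of_mul_eq_one_left e, mul_inv_eq_iff_eq_mul] at hxz
        exact hxz
      · exfalso
        obtain ⟨g, hg⟩ := hx
        refine hnot (z * g) ?_
        have hzi : z⁻¹ = z * u := by
          refine inv_eq_of_mul_eq_one_right ?_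
          rw [← mul_assoc, e, h.u_sq]
        rw [hzi] at hxz
        calc z * g * t * (z * g)⁻¹ = z * (g * t * g⁻¹) * z⁻¹ := by group
          _ = z * x * z⁻¹ := by rw [hg]
          _ = x * (x⁻¹ * z * x) * z⁻¹ := by group
          _ = x * u := by
            have : x⁻¹ * z * x = z * u := by
              have e2 : x * (z * u) * x⁻¹ = z := by
                calc x * (z * u) * x⁻¹ = (x * z * x⁻¹) * (x * u * x⁻¹) := by group
                  _ = z := by rw [hxz, hxu.eq, mul_inv_cancel_right, mul_assoc, h.u_sq, mul_one]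
              calc x⁻¹ * z * x = x⁻¹ * (x * (z * u) * x⁻¹) * x := by rw [e2]
                _ = z * u := by group
            rw [this, mul_assoc, hzu.eq, mul_inv_cancel_right]
    obtain ⟨ga, -, ega⟩ := h.a_conj
    have hza : a * z = z * a := key a (hz ▸ hflipa j) hnotau ⟨ga, ega⟩ h.au
    have hzH : z ∈ H := cent_le_of_conj h h.a_conj hza.symm
    have hzb : b * z = z * b := key b (hz ▸ hflipb j) (fun g e => htun (c⁻¹ * g) (by
      calc c⁻¹ * g * t * (c⁻¹ * g)⁻¹ = c⁻¹ * (g * t * g⁻¹) * c := by group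
        _ = c⁻¹ * (c * t * c⁻¹ * u) * c := by rw [e, hb]
        _ = t * u := by
          rw [mul_assoc (c * t), hci]; group)) ⟨c, hb.symm⟩ hbu
    obtain ⟨z', hz'⟩ : ∃ z', z' = c⁻¹ * z * c := ⟨_, rfl⟩
    have hz't : z' * t = t * z' := by
      calc z' * t = c⁻¹ * (z * b) * c := by rw [hz', hb]; group
        _ = t * z' := by rw [← hzb, hz', hb]; group
    have hz'H : z' ∈ H := h.cent_le (Subgroup.mem_centralizer_singleton_iff.2 hz't)
    have hcu : c⁻¹ * u * c = u := by rw [hci, inv_mul_cancel_right]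
    have hz'u : Commute z' u := by
      rw [hz']
      exact ((show Commute c⁻¹ u from hci).mul_left hzu).mul_left hc
    have hne1 : z' ≠ 1 := fun e => hz1.1 (by rw [show z = c * z' * c⁻¹ by rw [hz']; group, e]; group)
    have hneu : z' ≠ u := fun e => hz1.2 (by
      rw [show z = c * z' * c⁻¹ by rw [hz']; group, e, hc, mul_inv_cancel_right])
    have hzz' : z' * z' = 1 ∨ z' * z' = u := by
      rw [hz', show c⁻¹ * z * c * (c⁻¹ * z * c) = c⁻¹ * (z * z) * c by group]
      exact hzz.imp (fun e => by rw [e, mul_one, inv_mul_cancel]) fun e => by rw [e, hcu]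
    have hzeq : z = c * z' * c⁻¹ := by rw [hz']; group
    rcases h.roots z' hz'H hz't hz'u.eq hzz' hne1 hneu with hA | hA
    · refine hcH (mem_of_conj_mem h hA ?_)
      rw [← hzeq]
      obtain ⟨g, hg, e⟩ := hA
      have hzz1 : z * z = 1 := by
        rw [hzeq, show c * z' * c⁻¹ * (c * z' * c⁻¹) = c * (z' * z') * c⁻¹ by group, ← e,
          show g * t * g⁻¹ * (g * t * g⁻¹) = g * (t * t) * g⁻¹ by group, h.t_sq]
        group
      by_contra hn
      refine not_conj_of_not_in h hzH hzz1 hz1.1 hn (c * g) ?_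
      rw [hzeq, ← e]; group
    · refine hcH (mem_of_conj_mem h hA ?_)
      have hzu' : c * (z' * u) * c⁻¹ = z * u := by
        calc c * (z' * u) * c⁻¹ = c * z' * (u * c⁻¹) := by group
          _ = z * u := by rw [← hci, hzeq]; group
      rw [hzu']
      obtain ⟨g, hg, e⟩ := hA
      have hone : z * u ≠ 1 := fun e' => hz1.2 (by
        calc z = z * (u * u) := by rw [h.u_sq, mul_one]
          _ = u := by rw [← mul_assoc, e', one_mul])
      have hsq1 : z * u * (z * u) = 1 := by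
        rw [← hzu', ← e, show c * (g * t * g⁻¹) * c⁻¹ * (c * (g * t * g⁻¹) * c⁻¹) = c * g * (t * t) * g⁻¹ * c⁻¹ by
          group, h.t_sq]
        group
      by_contra hn
      refine not_conj_of_not_in h (H.mul_mem hzH h.u_mem) hsq1 hone hn (c * g) ?_
      rw [← hzu', ← e]; group
  · -- the two involutions are conjugate
    obtain ⟨x, hx⟩ : ∃ x, x = d ^ j := ⟨_, rfl⟩
    have e1 : x * a * x⁻¹ = d⁻¹ * d ^ m * a := by
      have hxa : a * x⁻¹ = x * a := by
        rw [hx, ← hflipa j]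
        calc a * (a * d ^ j * a⁻¹) = (a * a) * d ^ j * a⁻¹ := by group
          _ = d ^ j * a := by rw [haa, one_mul, hai]
      rw [mul_assoc, hxa, hx, ← mul_assoc, ← pow_add, hj, pow_succ', ← mul_assoc, inv_mul_cancel, one_mul, two_mul]
    have e2 : d⁻¹ * u * a = b * u := by
      rw [mul_assoc, ← h.au, hd, _root_.mul_inv_rev, hai, hbi, ← mul_assoc, mul_assoc b a a, haa, mul_one]
    have hxu : Commute x u := hx ▸ hdu.pow_left j
    rcases hm with e | e
    · rw [e, mul_one, hd, _root_.mul_inv_rev, hai, hbi] at e1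
      replace e1 : x * a * x⁻¹ = c * t * c⁻¹ := by rw [e1, mul_assoc, haa, mul_one, hb]
      have hyu : Commute (c⁻¹ * x) u := (show Commute c⁻¹ u from hci).mul_left hxu
      have e3 : c⁻¹ * x * a * (c⁻¹ * x)⁻¹ = t := by
        calc c⁻¹ * x * a * (c⁻¹ * x)⁻¹ = c⁻¹ * (x * a * x⁻¹) * c := by group
          _ = t := by rw [e1]; group
      have hy : c⁻¹ * x ∈ H := mem_of_conj_mem h h.a_conj ⟨1, H.one_mem, by rw [e3]; group⟩
      refine h.apart _ (H.inv_mem hy) hyu.inv_left.eq ?_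
      rw [inv_inv]
      calc (c⁻¹ * x)⁻¹ * t * (c⁻¹ * x) = (c⁻¹ * x)⁻¹ * (c⁻¹ * x * a * (c⁻¹ * x)⁻¹) * (c⁻¹ * x) := by rw [e3]
        _ = a := by group
    · rw [e, e2, hb] at e1
      obtain ⟨g, -, eg⟩ := h.a_conj
      refine htun (c⁻¹ * x * g) ?_
      calc c⁻¹ * x * g * t * (c⁻¹ * x * g)⁻¹ = c⁻¹ * (x * (g * t * g⁻¹) * x⁻¹) * c := by group
        _ = t * (c⁻¹ * u * c) := by rw [eg, e1]; group
        _ = t * u := by rw [hci, inv_mul_cancel_right]

/-- The whole group. -/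
theorem eq_top [Finite G] {H : Subgroup G} {t u a : G} (h : Facts H t u a) : H = ⊤ := by
  refine eq_top_iff.2 fun g _ => ?_
  obtain ⟨x, hx⟩ : ∃ x, x = g * u * g⁻¹ := ⟨_, rfl⟩
  have hxx : x * x = 1 := by
    rw [hx, show g * u * g⁻¹ * (g * u * g⁻¹) = g * (u * u) * g⁻¹ by group, h.u_sq, mul_one, mul_inv_cancel]
  have ht1 : t ≠ 1 := fun e => by
    obtain ⟨q, hq, e'⟩ := h.a_conj
    refine h.apart 1 H.one_mem (by rw [one_mul, mul_one]) ?_
    rw [← e', e]; group
  obtain ⟨d, hd⟩ : ∃ d, d = t * x := ⟨_, rfl⟩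
  have hti : t⁻¹ = t := inv_eq_of_mul_eq_one_left h.t_sq
  have hxi : x⁻¹ = x := inv_eq_of_mul_eq_one_left hxx
  have hflipt : ∀ k : ℕ, t * d ^ k * t⁻¹ = (d ^ k)⁻¹ := fun k => by
    rw [← conj_pow, ← inv_pow]
    congr 1
    rw [hd, _root_.mul_inv_rev, hti, hxi, ← mul_assoc t t, h.t_sq, one_mul]
  have hflipx : ∀ k : ℕ, x * d ^ k * x⁻¹ = (d ^ k)⁻¹ := fun k => by
    rw [← conj_pow, ← inv_pow]
    congr 1
    rw [hd, _root_.mul_inv_rev, hti, hxi, mul_assoc, mul_assoc t, hxx, mul_one]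
  rcases Nat.even_or_odd (orderOf d) with ⟨j, hj⟩ | ⟨j, hj⟩
  · have hpos := orderOf_pos d
    have hz1 : d ^ j ≠ 1 := fun e => by
      have := Nat.le_of_dvd (by omega) (orderOf_dvd_of_pow_eq_one e); omega
    have hzz : d ^ j * d ^ j = 1 := by rw [← pow_add, ← hj, pow_orderOf_eq_one]
    have hzi : (d ^ j)⁻¹ = d ^ j := inv_eq_of_mul_eq_one_left hzz
    have hzt := hflipt j
    rw [hzi, mul_inv_eq_iff_eq_mul] at hzt
    have hzx := hflipx j
    rw [hzi, mul_inv_eq_iff_eq_mul] at hzx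
    have hzH : d ^ j ∈ H := h.cent_le (Subgroup.mem_centralizer_singleton_iff.2 hzt.symm)
    have hxH : x ∈ H := by
      rcases h.classes _ hzH hzz hz1 with hA | ⟨p, hp, e⟩
      · exact cent_le_of_conj h hA hzx
      · have : p⁻¹ * x * p ∈ H := cent_second_le h (by
          calc p⁻¹ * x * p * u = p⁻¹ * (x * (p * u * p⁻¹)) * p := by group
            _ = u * (p⁻¹ * x * p) := by rw [e, hzx, ← e]; group)
        have := H.mul_mem (H.mul_mem hp this) (H.inv_mem hp)
        rwa [show p * (p⁻¹ * x * p) * p⁻¹ = x by group] at this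
    have hx1 : x ≠ 1 := fun e => h.u_ne (by
      rw [show u = g⁻¹ * x * g by rw [hx]; group, e]; group)
    rcases h.classes x hxH hxx hx1 with ⟨p, hp, e⟩ | ⟨p, hp, e⟩
    · exfalso
      refine h.not_conj (g⁻¹ * p) ?_
      calc g⁻¹ * p * t * (g⁻¹ * p)⁻¹ = g⁻¹ * (p * t * p⁻¹) * g := by group
        _ = u := by rw [e, hx]; group
    · have : p⁻¹ * g ∈ H := cent_second_le h (by
        calc p⁻¹ * g * u = p⁻¹ * (g * u * g⁻¹) * g := by group
          _ = u * (p⁻¹ * g) := by rw [← hx, ← e]; group)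
      have := H.mul_mem hp this
      rwa [mul_inv_cancel_left] at this
  · exfalso
    refine h.not_conj (g⁻¹ * d ^ j) ?_
    have hxa : t * (d ^ j)⁻¹ = d ^ j * t := by
      rw [← hflipt j]
      calc t * (t * d ^ j * t⁻¹) = (t * t) * d ^ j * t⁻¹ := by group
        _ = d ^ j * t := by rw [h.t_sq, one_mul, hti]
    have e1 : d ^ j * t * (d ^ j)⁻¹ = x := by
      rw [mul_assoc, hxa, ← mul_assoc, ← pow_add]
      have e : d ^ (j + j) = d⁻¹ := eq_inv_of_mul_eq_one_left (by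
        rw [← pow_succ, show j + j + 1 = orderOf d by omega, pow_orderOf_eq_one])
      rw [e, hd, _root_.mul_inv_rev, hti, hxi, mul_assoc, h.t_sq, mul_one]
    calc g⁻¹ * d ^ j * t * (g⁻¹ * d ^ j)⁻¹ = g⁻¹ * (d ^ j * t * (d ^ j)⁻¹) * g := by group
      _ = u := by rw [e1, hx]; group

end CfsgLib.Recog.HSTop
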