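import Cfsg.Agent.Lib.Recog.HSTop.Abstract
import Cfsg.Agent.Lib.KnownA.HSModel.Invol.Classes

/-!
A copy of the Higman–Sims group containing the centraliser, of order 7680, of one of its involutions is the whole
group.
-/

set_option autoImplicit false
set_option maxRecDepth 100000

namespace CfsgLib.Recog.HSTop

open CfsgLib.KnownA CfsgLib.KnownA.HSModel CfsgLib.KnownA.HSModel.Invol CfsgLib.KnownA.PermCert

variable {G : Type*} [Group G]

theorem card_centralizer_conj {g x y : G} (h : g * x * g⁻¹ = y) :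
    Nat.card (Subgroup.centralizer ({y} : Set G)) = Nat.card (Subgroup.centralizer ({x} : Set G)) := by
  have e : (Subgroup.centralizer ({x} : Set G)).map (MulAut.conj g).toMonoidHom =
      Subgroup.centralizer ({y} : Set G) := by
    ext c
    rw [Subgroup.mem_centralizer_singleton_iff, Subgroup.mem_map_equiv,
      Subgroup.mem_centralizer_singleton_iff]
    show g⁻¹ * c * g * x = x * (g⁻¹ * c * g) ↔ _
    rw [← h]
    constructor
    · intro e
      calc c * (g * x * g⁻¹) = g * (g⁻¹ * c * g * x) * g⁻¹ := by group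
        _ = g * x * g⁻¹ * c := by rw [e]; group
    · intro e
      calc g⁻¹ * c * g * x = g⁻¹ * (c * (g * x * g⁻¹)) * g := by group
        _ = x * (g⁻¹ * c * g) := by rw [e]; group
  rw [← e, Subgroup.card_map_of_injective (MulAut.conj g).injective]

/-- The whole group. -/
theorem eq_top_of_hsPermGroup [Finite G] {G0 : Subgroup G} (e : G0 ≃* hsPermGroup) {t : G} (ht : t ∈ G0)
    (h2 : orderOf t = 2) (hle : Subgroup.centralizer ({t} : Set G) ≤ G0)
    (hcard : Nat.card (Subgroup.centralizer ({t} : Set G)) = 7680) : G0 = ⊤ := by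
  obtain ⟨φ, hφ⟩ : ∃ φ : hsPermGroup →* G, φ = G0.subtype.comp e.symm.toMonoidHom := ⟨_, rfl⟩
  have hinj : Function.Injective φ := hφ ▸ Subtype.val_injective.comp e.symm.injective
  have hmem : ∀ k, φ k ∈ G0 := fun k => by rw [hφ]; exact (e.symm k).2
  have hsurj : ∀ g ∈ G0, ∃ k, φ k = g := fun g hg => ⟨e ⟨g, hg⟩, by rw [hφ]; simp⟩
  let T : hsPermGroup := ⟨_, tA_mem⟩
  let U : hsPermGroup := ⟨_, uB_mem⟩
  let A : hsPermGroup := ⟨_, a_mem⟩
  obtain ⟨-, htne, -, huu, hufix, -, haufix, htufix, htu, hau, hy, hp3, hq3, hpq, hpu, hqu, hp1, hq1, hqp,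
    hqp2⟩ := named
  obtain ⟨k, hk⟩ := hsurj t ht
  have htt : t * t = 1 := by rw [← pow_two, ← h2, pow_orderOf_eq_one]
  have hk2 : k * k = 1 := hinj (by rw [map_mul, hk, map_one, htt])
  have hk1 : k ≠ 1 := fun e' => by
    rw [e', map_one] at hk
    rw [← hk, orderOf_one] at h2
    exact absurd h2 (by norm_num)
  -- a centraliser of the second involution has order divisible by nine
  have hnine : ∀ g : G, g * t * g⁻¹ ≠ φ U := by
    intro g hg
    obtain ⟨-, hpK⟩ := named_mem (c := pCode) (by simp)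
    obtain ⟨-, hqK⟩ := named_mem (c := qCode) (by simp)
    let P : hsPermGroup := ⟨_, hpK⟩
    let Q : hsPermGroup := ⟨_, hqK⟩
    have hC : ∀ z : hsPermGroup, z * U = U * z → φ z ∈ Subgroup.centralizer ({φ U} : Set G) := fun z hz =>
      Subgroup.mem_centralizer_singleton_iff.2 (by rw [← map_mul, hz, map_mul])
    have := nine_dvd_of_pair (p := φ P) (q := φ Q)
      (by rw [← map_mul, ← map_mul]; exact congrArg φ (Subtype.ext hpq))
      (by rw [← map_pow, ← map_one φ]; exact congrArg φ (Subtype.ext hp3))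
      (by rw [← map_pow, ← map_one φ]; exact congrArg φ (Subtype.ext hq3))
      (fun e' => hp1 (congrArg Subtype.val (hinj (e'.trans (map_one φ).symm))))
      (fun e' => hq1 (congrArg Subtype.val (hinj (e'.trans (map_one φ).symm))))
      (fun e' => hqp (congrArg Subtype.val (hinj e')))
      (fun e' => hqp2 (congrArg Subtype.val (hinj (e'.trans (map_pow φ P 2).symm))))
      (hC P (Subtype.ext hpu)) (hC Q (Subtype.ext hqu))
    rw [card_centralizer_conj hg, hcard] at this
    exact absurd this (by norm_num)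
  obtain ⟨g, hgK, hg⟩ := classify k.2 (congrArg Subtype.val hk2) (fun e' => hk1 (Subtype.ext e'))
  obtain ⟨g, rfl⟩ : ∃ g' : hsPermGroup, (g' : Equiv.Perm (Fin 100)) = g := ⟨⟨g, hgK⟩, rfl⟩
  have hgT : g * T * g⁻¹ = k := by
    rcases hg with hg | hg
    · exact Subtype.ext hg
    · exfalso
      refine hnine (φ g)⁻¹ ?_
      have : φ g * φ U * (φ g)⁻¹ = t := by
        rw [← hk, ← map_inv, ← map_mul, ← map_mul, show g * U * g⁻¹ = k from Subtype.ext hg]
      rw [← this]
      group
  have ht' : φ g * φ T * (φ g)⁻¹ = t := by rw [← hk, ← map_inv, ← map_mul, ← map_mul, hgT]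
  have hleT : Subgroup.centralizer ({φ T} : Set G) ≤ G0 := by
    intro c hc
    rw [Subgroup.mem_centralizer_singleton_iff] at hc
    have : φ g * c * (φ g)⁻¹ ∈ G0 := hle (Subgroup.mem_centralizer_singleton_iff.2 (by
      rw [← ht']
      calc φ g * c * (φ g)⁻¹ * (φ g * φ T * (φ g)⁻¹) = φ g * (c * φ T) * (φ g)⁻¹ := by group
        _ = φ g * φ T * (φ g)⁻¹ * (φ g * c * (φ g)⁻¹) := by rw [hc]; group))
    have := G0.mul_mem (G0.mul_mem (G0.inv_mem (hmem g)) this) (hmem g)
    rwa [show (φ g)⁻¹ * (φ g * c * (φ g)⁻¹) * φ g = c by group] at this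
  have hcT : Nat.card (Subgroup.centralizer ({φ T} : Set G)) = 7680 := by
    rw [← card_centralizer_conj ht', hcard]
  have hc : Nat.card centT = 7680 := by
    rw [← hcT]
    refine Nat.card_congr (Equiv.ofBijective (fun σ => ⟨φ ⟨σ.1, (mem_centT.1 σ.2).1⟩,
      Subgroup.mem_centralizer_singleton_iff.2 ?_⟩) ⟨?_, ?_⟩)
    · rw [← map_mul, ← map_mul]
      exact congrArg φ (Subtype.ext (mem_centT.1 σ.2).2)
    · intro a b hab
      exact Subtype.ext (Subtype.mk_eq_mk.1 (hinj (congrArg Subtype.val hab)))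
    · rintro ⟨c, hc'⟩
      obtain ⟨z, rfl⟩ := hsurj c (hleT hc')
      have hz : z * T = T * z := hinj (by
        rw [map_mul, map_mul]; exact Subgroup.mem_centralizer_singleton_iff.1 hc')
      exact ⟨⟨z.1, mem_centT.2 ⟨z.2, congrArg Subtype.val hz⟩⟩, rfl⟩
  have hconj : ∀ {z : hsPermGroup} {x : Equiv.Perm (Fin 100)}, x ∈ hsPermGroup →
      x * permOf 100 tA * x⁻¹ = z.1 → InH G0 (φ T) (φ z) := by
    intro z x hx e'
    refine ⟨φ ⟨x, hx⟩, hmem _, ?_⟩
    rw [← map_inv, ← map_mul, ← map_mul]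
    exact congrArg φ (Subtype.ext e')
  have hback : ∀ {z : hsPermGroup}, InH G0 (φ T) (φ z) →
      ∃ x ∈ hsPermGroup, x * permOf 100 tA * x⁻¹ = z.1 := by
    rintro z ⟨y, hy', e'⟩
    obtain ⟨w, rfl⟩ := hsurj y hy'
    rw [← map_inv, ← map_mul, ← map_mul] at e'
    exact ⟨w, w.2, congrArg Subtype.val (hinj e')⟩
  have hnofix : ∀ z : hsPermGroup, ¬ HasFixed z.1 → ¬ InH G0 (φ T) (φ z) := fun z hz hI => by
    obtain ⟨x, -, e'⟩ := hback hI
    exact hz (e' ▸ hasFixed_conj fixed_tA)
  refine eq_top (t := φ T) (u := φ U) (a := φ A)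
    ⟨hmem _, hmem _, hmem _, hleT, ?_, ?_, ?_, ?_, ?_, ?_, ?_, ?_, ?_, ?_, ?_, ?_⟩
  · rw [← map_mul, ← map_one φ]; exact congrArg φ (Subtype.ext huu)
  · intro e'
    exact uB_ne (congrArg Subtype.val (hinj (e'.trans (map_one φ).symm)))
  · rw [← map_mul, ← map_one φ]; exact congrArg φ (Subtype.ext named.1)
  · rw [← map_mul, ← map_mul]; exact congrArg φ (Subtype.ext htu)
  · rw [← map_mul, ← map_mul]; exact congrArg φ (Subtype.ext hau)
  · intro x hx hxx hx1
    obtain ⟨z, rfl⟩ := hsurj x hx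
    rw [← map_mul, ← map_one φ] at hxx
    obtain ⟨w, hw, e' | e'⟩ := classify z.2 (congrArg Subtype.val (hinj hxx))
      (fun e' => hx1 (by rw [show z = 1 from Subtype.ext e', map_one]))
    · exact Or.inl (hconj hw e')
    · refine Or.inr ⟨φ ⟨w, hw⟩, hmem _, ?_⟩
      rw [← map_inv, ← map_mul, ← map_mul]
      exact congrArg φ (Subtype.ext e')
  · refine hconj y_mem ?_
    show permOf 100 yCode * permOf 100 tA * (permOf 100 yCode)⁻¹ = permOf 100 aCode
    rw [hy, mul_inv_cancel_right]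
  · rw [← map_mul]; exact hnofix (A * U) haufix
  · rw [← map_mul]; exact hnofix (T * U) htufix
  · intro x hx hxu
    obtain ⟨z, rfl⟩ := hsurj x hx
    intro e'
    rw [← map_mul, ← map_mul] at hxu
    rw [← map_inv, ← map_mul, ← map_mul] at e'
    exact Invol.apart hc z.2 (congrArg Subtype.val (hinj hxu)) (congrArg Subtype.val (hinj e'))
  · intro x hx hxt hxu hsq hx1 hxu'
    obtain ⟨z, rfl⟩ := hsurj x hx
    rw [← map_mul, ← map_mul] at hxt hxu
    have hsq' : z * z = 1 ∨ z * z = U :=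
      hsq.imp (fun e' => hinj (by rw [map_mul, map_one, e'])) (fun e' => hinj (by rw [map_mul, e']))
    rcases Invol.roots hc z.2 (congrArg Subtype.val (hinj hxt)) (congrArg Subtype.val (hinj hxu))
      (hsq'.imp (congrArg Subtype.val) (congrArg Subtype.val))
      (fun e' => hx1 (by rw [show z = 1 from Subtype.ext e', map_one]))
      (fun e' => hxu' (by rw [show z = U from Subtype.ext e'])) with ⟨w, hw, e'⟩ | ⟨w, hw, e'⟩
    · exact Or.inl (hconj hw e')
    · rw [← map_mul]; exact Or.inr (hconj hw (z := z * U) e')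
  · intro x e'
    refine hnine (x * (φ g)⁻¹) ?_
    rw [← e', ← ht']
    group


end CfsgLib.Recog.HSTop
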